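import Groth.Agent.H83.PBWRing.Degree
import Mathlib.Tactic.Abel
import Mathlib.Tactic.LinearCombination

set_option autoImplicit false
set_option linter.unusedSectionVars false

namespace Groth.Agent.H83.PBWRing

universe u v w



variable {k : Type u} [CommRing k] {L : Type v} [LieRing L] [LieAlgebra k L]
  {ι : Type w} [LinearOrder ι] (b : Module.Basis ι k L)

/-- the defect of the bracket relation -/
noncomputable def D (x y : L) : S k ι →ₗ[k] S k ι :=
  rho b x ∘ₗ rho b y - rho b y ∘ₗ rho b x - rho b ⁅x, y⁆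

theorem D_apply (x y : L) (v : S k ι) :
    D b x y v = rho b x (rho b y v) - rho b y (rho b x v) - rho b ⁅x, y⁆ v := rfl

theorem eq_of_D {x y : L} {v : S k ι} (h : D b x y v = 0) :
    rho b x (rho b y v) = rho b y (rho b x v) + rho b ⁅x, y⁆ v := by
  rw [D_apply] at h
  have := sub_eq_zero.mp h
  rw [sub_eq_iff_eq_add] at this
  rw [this]; abel

theorem D_swap (x y : L) (v : S k ι) : D b y x v = - D b x y v := by
  rw [D_apply, D_apply, ← lie_skew x y, map_neg, LinearMap.neg_apply]
  abel

theorem D_self (x : L) (v : S k ι) : D b x x v = 0 := by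
  rw [D_apply, lie_self, map_zero, LinearMap.zero_apply]
  abel

/-- bilinear extension from the basis -/
theorem D_eq_zero_of_basis {v : S k ι} (h : ∀ i j, D b (b i) (b j) v = 0) (x y : L) :
    D b x y v = 0 := by
  have h1 : ∀ j, D b x (b j) v = 0 := by
    intro j
    have hx : x ∈ Submodule.span k (Set.range b) := b.mem_span x
    induction hx using Submodule.span_induction with
    | mem x hx =>
      obtain ⟨i, rfl⟩ := hx
      exact h i j
    | zero => simp [D_apply]
    | add x x' _ _ hx hx' =>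
      have : D b (x + x') (b j) v = D b x (b j) v + D b x' (b j) v := by
        simp only [D_apply, map_add, add_lie, LinearMap.add_apply]
        abel
      rw [this, hx, hx', add_zero]
    | smul c x _ hx =>
      have : D b (c • x) (b j) v = c • D b x (b j) v := by
        simp only [D_apply, map_smul, smul_lie, LinearMap.smul_apply, smul_sub]
      rw [this, hx, smul_zero]
  have hy : y ∈ Submodule.span k (Set.range b) := b.mem_span y
  induction hy using Submodule.span_induction with
  | mem y hy =>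
    obtain ⟨j, rfl⟩ := hy
    exact h1 j
  | zero => simp [D_apply]
  | add y y' _ _ hy hy' =>
    have : D b x (y + y') v = D b x y v + D b x y' v := by
      simp only [D_apply, map_add, lie_add, LinearMap.add_apply]
      abel
    rw [this, hy, hy', add_zero]
  | smul c y _ hy =>
    have : D b x (c • y) v = c • D b x y v := by
      simp only [D_apply, map_smul, lie_smul, LinearMap.smul_apply, smul_sub]
    rw [this, hy, smul_zero]

/-- Case 1: no induction needed. -/
theorem D_basis_of_LB {i j : ι} {s : Multiset ι} (hj : LB j s) (hji : j < i) :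
    D b (b i) (b j) (e k s) = 0 := by
  rw [D_apply, rho_basis, rho_basis, rhoB_e_of_LB b hj, rhoB_e_cons b hj hji]
  abel

end Groth.Agent.H83.PBWRing

namespace Groth.Agent.H83.PBWRing

universe u v w

variable {k : Type u} [CommRing k] {L : Type v} [LieRing L] [LieAlgebra k L]
  {ι : Type w} [LinearOrder ι] (b : Module.Basis ι k L)

/-- the induction hypothesis in linear form -/
theorem D_eq_zero_of_ih {n : ℕ}
    (ih : ∀ m < n, ∀ s : Multiset ι, Multiset.card s = m → ∀ i j, D b (b i) (b j) (e k s) = 0)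
    {m : ℕ} (hm : m < n) {v : S k ι} (hv : v ∈ Sle k ι m) (x y : L) : D b x y v = 0 := by
  have : D b x y v = (0 : S k ι →ₗ[k] S k ι) v := by
    apply eq_on_Sle _ hv
    intro s hs
    rw [LinearMap.zero_apply]
    apply D_eq_zero_of_basis
    intro i j
    exact ih (Multiset.card s) (lt_of_le_of_lt hs hm) s rfl i j
  rw [this, LinearMap.zero_apply]

/-- Case 2 of the main induction. -/
theorem D_basis_of_not_LB {n : ℕ}
    (ih : ∀ m < n, ∀ s : Multiset ι, Multiset.card s = m → ∀ i j, D b (b i) (b j) (e k s) = 0)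
    {s : Multiset ι} (hs : Multiset.card s = n) {i j : ι} (hji : j < i) (hj : ¬ LB j s) :
    D b (b i) (b j) (e k s) = 0 := by
  have hs0 := ne_zero_of_not_LB hj
  obtain ⟨l, hl⟩ : ∃ l, l = minOf s hs0 := ⟨_, rfl⟩
  obtain ⟨Ψ, hΨ⟩ : ∃ Ψ, Ψ = s.erase l := ⟨_, rfl⟩
  have hcons : l ::ₘ Ψ = s := by rw [hΨ, hl]; exact cons_erase_minOf s hs0
  have hcard : Multiset.card Ψ + 1 = n := by rw [← hs, ← hcons, Multiset.card_cons]
  have hΨn : Multiset.card Ψ < n := by omega
  have hlΨ : LB l Ψ := by rw [hΨ, hl]; exact minOf_LB_erase s hs0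
  have hlj : l < j := by rw [hl]; exact minOf_lt_of_not_LB hj
  have hli : l < i := hlj.trans hji
  have hvΨ : e k Ψ ∈ Sle k ι (Multiset.card Ψ) := e_mem_Sle le_rfl
  -- `e s = Z (e Ψ)`
  have hes : e k s = rho b (b l) (e k Ψ) := by
    rw [rho_basis, rhoB_e_of_LB b hlΨ, hcons]
  -- the facts
  have fa := eq_of_D b (D_eq_zero_of_ih b ih hΨn hvΨ (b j) (b l))
  have fa' := eq_of_D b (D_eq_zero_of_ih b ih hΨn hvΨ (b i) (b l))
  have fc := eq_of_D b (D_eq_zero_of_ih b ih hΨn hvΨ (b i) ⁅b j, b l⁆)
  have fc' := eq_of_D b (D_eq_zero_of_ih b ih hΨn hvΨ (b j) ⁅b i, b l⁆)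
  have fd := eq_of_D b (D_eq_zero_of_ih b ih hΨn hvΨ (b i) (b j))
  have fe := eq_of_D b (D_eq_zero_of_ih b ih hΨn hvΨ ⁅b i, b j⁆ (b l))
  -- (b): `D (b i) (b l)` kills `rho (b j) (e Ψ)`
  have hb : ∀ a c : ι, l < a → l < c → D b (b a) (b l) (rho b (b c) (e k Ψ)) = 0 := by
    intro a c hla hlc
    obtain ⟨w, hwdef⟩ : ∃ w, w = rhoB b c (e k Ψ) - e k (c ::ₘ Ψ) := ⟨_, rfl⟩
    have hw : w ∈ Sle k ι (Multiset.card Ψ) := hwdef ▸ rhoB_e_sub_mem b c Ψ
    have hsplit : rho b (b c) (e k Ψ) = e k (c ::ₘ Ψ) + w := by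
      rw [rho_basis, hwdef]; abel
    rw [hsplit, map_add, D_basis_of_LB b (LB_cons hlc.le hlΨ) hla,
      D_eq_zero_of_ih b ih hΨn hw, add_zero]
  have fb := eq_of_D b (hb i j hli hlj)
  have fb' := eq_of_D b (hb j i hlj hli)
  -- Jacobi
  have hjac : ⁅b i, ⁅b j, b l⁆⁆ = ⁅⁅b i, b j⁆, b l⁆ + ⁅b j, ⁅b i, b l⁆⁆ := leibniz_lie _ _ _
  have hjac' : rho b ⁅b i, ⁅b j, b l⁆⁆ (e k Ψ) =
      rho b ⁅⁅b i, b j⁆, b l⁆ (e k Ψ) + rho b ⁅b j, ⁅b i, b l⁆⁆ (e k Ψ) := by
    rw [hjac, map_add, LinearMap.add_apply]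
  -- apply outer operators
  have fa1 := congrArg (rho b (b i)) fa
  have fa1' := congrArg (rho b (b j)) fa'
  have fd1 := congrArg (rho b (b l)) fd
  rw [map_add] at fa1 fa1' fd1
  rw [D_apply, hes]
  rw [fa1, fb, fc, fa1', fb', fc', fe, fd1, hjac']
  abel

/-- The bracket relation on basis vectors. -/
theorem D_basis : ∀ (n : ℕ) (s : Multiset ι), Multiset.card s = n → ∀ i j : ι,
    D b (b i) (b j) (e k s) = 0 := by
  intro n
  induction n using Nat.strong_induction_on with
  | _ n ih =>
    intro s hs i j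
    have key : ∀ i j : ι, j < i → D b (b i) (b j) (e k s) = 0 := by
      intro i j hji
      by_cases hj : LB j s
      · exact D_basis_of_LB b hj hji
      · exact D_basis_of_not_LB b ih hs hji hj
    rcases lt_trichotomy i j with h | h | h
    · rw [D_swap, key j i h, neg_zero]
    · rw [h, D_self]
    · exact key i j h

/-- `rho` respects brackets. -/
theorem rho_lie (x y : L) : rho b ⁅x, y⁆ = rho b x * rho b y - rho b y * rho b x := by
  have h : ∀ v : S k ι, D b x y v = 0 := by
    intro v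
    have : D b x y v = (0 : S k ι →ₗ[k] S k ι) v := by
      have hv : v ∈ (⊤ : Submodule k (S k ι)) := trivial
      rw [← Finsupp.supported_univ, Finsupp.supported_eq_span_single] at hv
      refine LinearMap.eqOn_span ?_ hv
      rintro _ ⟨s, -, rfl⟩
      rw [LinearMap.zero_apply]
      apply D_eq_zero_of_basis
      intro i j
      exact D_basis b _ s rfl i j
    rw [this, LinearMap.zero_apply]
  apply LinearMap.ext
  intro v
  have := eq_of_D b (h v)
  rw [LinearMap.sub_apply, Module.End.mul_apply, Module.End.mul_apply, this]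
  abel

end Groth.Agent.H83.PBWRing
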