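import Mathlib.Algebra.Lie.UniversalEnveloping
import Mathlib.LinearAlgebra.Basis.Defs
import Mathlib.LinearAlgebra.Basis.Basic
import Mathlib.LinearAlgebra.Finsupp.LinearCombination
import Mathlib.LinearAlgebra.Finsupp.Supported
import Mathlib.LinearAlgebra.Finsupp.Span
import Mathlib.Data.Multiset.Sort
import Mathlib.Data.List.Sort
import Mathlib.Data.Finset.Max

set_option autoImplicit false

namespace Groth.Agent.H83.PBWRing

universe u v w

open Multiset

section Combinatorics

variable {ι : Type w} [LinearOrder ι]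

/-- `i` is a lower bound of the multiset `s` -/
def LB (i : ι) (s : Multiset ι) : Prop := ∀ j ∈ s, i ≤ j

instance (i : ι) (s : Multiset ι) : Decidable (LB i s) := by
  unfold LB; infer_instance

theorem ne_zero_of_not_LB {i : ι} {s : Multiset ι} (h : ¬ LB i s) : s ≠ 0 := by
  rintro rfl
  exact h (fun j hj => absurd hj (Multiset.notMem_zero j))

/-- the minimum of a nonempty multiset -/
def minOf (s : Multiset ι) (hs : s ≠ 0) : ι :=
  s.toFinset.min' (by
    rw [Finset.nonempty_iff_ne_empty, Ne, Multiset.toFinset_eq_empty]; exact hs)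

theorem minOf_mem (s : Multiset ι) (hs : s ≠ 0) : minOf s hs ∈ s := by
  have := Finset.min'_mem s.toFinset (by
    rw [Finset.nonempty_iff_ne_empty, Ne, Multiset.toFinset_eq_empty]; exact hs)
  exact Multiset.mem_toFinset.mp this

theorem minOf_le (s : Multiset ι) (hs : s ≠ 0) {j : ι} (hj : j ∈ s) : minOf s hs ≤ j :=
  Finset.min'_le _ _ (Multiset.mem_toFinset.mpr hj)

theorem minOf_LB_erase (s : Multiset ι) (hs : s ≠ 0) : LB (minOf s hs) (s.erase (minOf s hs)) :=
  fun _ hj => minOf_le s hs (Multiset.mem_of_mem_erase hj)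

theorem minOf_LB (s : Multiset ι) (hs : s ≠ 0) : LB (minOf s hs) s :=
  fun _ hj => minOf_le s hs hj

theorem minOf_lt_of_not_LB {i : ι} {s : Multiset ι} (h : ¬ LB i s) :
    minOf s (ne_zero_of_not_LB h) < i := by
  unfold LB at h
  push Not at h
  obtain ⟨j, hj, hji⟩ := h
  exact lt_of_le_of_lt (minOf_le s _ hj) hji

theorem cons_erase_minOf (s : Multiset ι) (hs : s ≠ 0) :
    minOf s hs ::ₘ s.erase (minOf s hs) = s :=
  Multiset.cons_erase (minOf_mem s hs)

theorem card_erase_minOf (s : Multiset ι) (hs : s ≠ 0) :
    card (s.erase (minOf s hs)) + 1 = card s := by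
  conv_rhs => rw [← cons_erase_minOf s hs]
  rw [Multiset.card_cons]

theorem minOf_cons_of_LB {j : ι} {s : Multiset ι} (h : LB j s) (hne : j ::ₘ s ≠ 0) :
    minOf (j ::ₘ s) hne = j := by
  apply le_antisymm
  · exact minOf_le _ _ (Multiset.mem_cons_self j s)
  · have := minOf_mem (j ::ₘ s) hne
    rcases Multiset.mem_cons.mp this with h' | h'
    · exact h'.ge
    · exact h _ h'

theorem LB_cons {l i : ι} {s : Multiset ι} (hli : l ≤ i) (hs : LB l s) : LB l (i ::ₘ s) := by
  intro j hj
  rcases Multiset.mem_cons.mp hj with rfl | h'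
  · exact hli
  · exact hs _ h'

end Combinatorics

end Groth.Agent.H83.PBWRing

namespace Groth.Agent.H83.PBWRing

universe u v w

open Multiset

variable {k : Type u} [CommRing k] {L : Type v} [LieRing L] [LieAlgebra k L]
  {ι : Type w} [LinearOrder ι] (b : Module.Basis ι k L)

/-- the "symmetric algebra" module: free on multisets of indices -/
abbrev S (k : Type u) [CommRing k] (ι : Type w) := Multiset ι →₀ k

/-- basis vectors -/
noncomputable def e (k : Type u) [CommRing k] {ι : Type w} (s : Multiset ι) : S k ι := Finsupp.single s 1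

/-- structure constants -/
noncomputable def sc (i j : ι) : ι →₀ k := b.repr ⁅b i, b j⁆

/-- the action of the basis vector `b i` on the basis vector `e s`, by recursion on `card s` -/
noncomputable def F (i : ι) (s : Multiset ι) : S k ι :=
  if h : LB i s then e k (i ::ₘ s) else
    Finsupp.linearCombination k
        (fun s' => if _h' : card s' < card s then F (minOf s (ne_zero_of_not_LB h)) s'
          else e k (minOf s (ne_zero_of_not_LB h) ::ₘ s'))
        (F i (s.erase (minOf s (ne_zero_of_not_LB h))))
      + Finsupp.linearCombination k (fun m => F m (s.erase (minOf s (ne_zero_of_not_LB h))))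
          (sc b i (minOf s (ne_zero_of_not_LB h)))
termination_by card s
decreasing_by
  · exact _h'
  · have := card_erase_minOf s (ne_zero_of_not_LB h); omega
  · have := card_erase_minOf s (ne_zero_of_not_LB h); omega

end Groth.Agent.H83.PBWRing

namespace Groth.Agent.H83.PBWRing

universe u v w

open Multiset

variable {k : Type u} [CommRing k] {L : Type v} [LieRing L] [LieAlgebra k L]
  {ι : Type w} [LinearOrder ι] (b : Module.Basis ι k L)

theorem F_of_LB {i : ι} {s : Multiset ι} (h : LB i s) : F b i s = e k (i ::ₘ s) := by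
  rw [F, dif_pos h]

theorem F_of_not_LB {i : ι} {s : Multiset ι} (h : ¬ LB i s) :
    F b i s = Finsupp.linearCombination k
        (fun s' => if card s' < card s then F b (minOf s (ne_zero_of_not_LB h)) s'
          else e k (minOf s (ne_zero_of_not_LB h) ::ₘ s'))
        (F b i (s.erase (minOf s (ne_zero_of_not_LB h))))
      + Finsupp.linearCombination k (fun m => F b m (s.erase (minOf s (ne_zero_of_not_LB h))))
          (sc b i (minOf s (ne_zero_of_not_LB h))) := by
  rw [F, dif_neg h]
  rfl

/-- the operator `ρ_i` -/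
noncomputable def rhoB (i : ι) : S k ι →ₗ[k] S k ι := Finsupp.linearCombination k (F b i)

theorem rhoB_e (i : ι) (s : Multiset ι) : rhoB b i (e k s) = F b i s := by
  simp [rhoB, e]

/-- the representation on all of `L` -/
noncomputable def rho : L →ₗ[k] Module.End k (S k ι) := b.constr k (fun i => rhoB b i)

theorem rho_basis (i : ι) : rho b (b i) = rhoB b i := by
  simp [rho]

theorem rho_eq_sum (x : L) : rho b x = Finsupp.linearCombination k (fun i => rhoB b i) (b.repr x) := by
  simp [rho, Module.Basis.constr_apply, Finsupp.linearCombination_apply]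

/-- the degree filtration -/
noncomputable def Sle (k : Type u) [CommRing k] (ι : Type w) (n : ℕ) : Submodule k (S k ι) :=
  Finsupp.supported k k {s | card s ≤ n}

theorem e_mem_Sle {s : Multiset ι} {n : ℕ} (h : card s ≤ n) : e k s ∈ Sle k ι n := by
  unfold Sle e
  exact Finsupp.single_mem_supported k 1 h

theorem Sle_mono {m n : ℕ} (h : m ≤ n) : Sle k ι m ≤ Sle k ι n := by
  unfold Sle
  exact Finsupp.supported_mono (fun s hs => le_trans hs h)

theorem Sle_eq_span (n : ℕ) :
    Sle k ι n = Submodule.span k ((fun s => e k s) '' {s : Multiset ι | card s ≤ n}) := by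
  unfold Sle e
  exact Finsupp.supported_eq_span_single k _

/-- linear maps agreeing on basis vectors of degree `≤ n` agree on `Sle n` -/
theorem eq_on_Sle {M : Type*} [AddCommGroup M] [Module k M] {T₁ T₂ : S k ι →ₗ[k] M} {n : ℕ}
    (h : ∀ s, card s ≤ n → T₁ (e k s) = T₂ (e k s)) {v : S k ι} (hv : v ∈ Sle k ι n) :
    T₁ v = T₂ v := by
  rw [Sle_eq_span] at hv
  refine LinearMap.eqOn_span ?_ hv
  rintro _ ⟨s, hs, rfl⟩
  exact h s hs

/-- a linear map sending basis vectors of degree `≤ n` into a submodule sends `Sle n` into it -/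
theorem map_mem_of_Sle {T : S k ι →ₗ[k] S k ι} {n : ℕ} {N : Submodule k (S k ι)}
    (h : ∀ s, card s ≤ n → T (e k s) ∈ N) {v : S k ι} (hv : v ∈ Sle k ι n) : T v ∈ N := by
  rw [Sle_eq_span] at hv
  have : Submodule.span k ((fun s => e k s) '' {s : Multiset ι | card s ≤ n}) ≤ N.comap T := by
    rw [Submodule.span_le]
    rintro _ ⟨s, hs, rfl⟩
    exact h s hs
  exact this hv

end Groth.Agent.H83.PBWRing
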