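import Groth.Agent.H83.PBWRing.Defs

set_option autoImplicit false
set_option linter.unusedSectionVars false

namespace Groth.Agent.H83.PBWRing

universe u v w

open Multiset

variable {k : Type u} [CommRing k] {L : Type v} [LieRing L] [LieAlgebra k L]
  {ι : Type w} [LinearOrder ι] (b : Module.Basis ι k L)

/-- the guarded operator appearing in the recursive definition -/
noncomputable def G (l : ι) (n : ℕ) : S k ι →ₗ[k] S k ι :=
  Finsupp.linearCombination k (fun s' => if card s' < n then F b l s' else e k (l ::ₘ s'))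

theorem G_e_of_lt {l : ι} {n : ℕ} {s' : Multiset ι} (h : card s' < n) :
    G b l n (e k s') = F b l s' := by
  simp [G, e, h]

theorem G_e_of_not_lt {l : ι} {n : ℕ} {s' : Multiset ι} (h : ¬ card s' < n) :
    G b l n (e k s') = e k (l ::ₘ s') := by
  simp [G, e, h]

theorem G_eq_rhoB {l : ι} {n : ℕ} {v : S k ι} (hv : v ∈ Sle k ι n) :
    G b l (n + 1) v = rhoB b l v := by
  apply eq_on_Sle _ hv
  intro s hs
  rw [G_e_of_lt b (Nat.lt_succ_of_le hs), rhoB_e]

theorem rho_lie_e (i l : ι) (s : Multiset ι) :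
    rho b ⁅b i, b l⁆ (e k s) = Finsupp.linearCombination k (fun m => F b m s) (sc b i l) := by
  rw [rho_eq_sum]
  simp only [Finsupp.linearCombination_apply, Finsupp.sum, LinearMap.sum_apply,
    LinearMap.smul_apply, rhoB_e, sc]

theorem F_of_not_LB' {i : ι} {s : Multiset ι} (h : ¬ LB i s) :
    F b i s = G b (minOf s (ne_zero_of_not_LB h)) (card s)
        (F b i (s.erase (minOf s (ne_zero_of_not_LB h))))
      + rho b ⁅b i, b (minOf s (ne_zero_of_not_LB h))⁆
          (e k (s.erase (minOf s (ne_zero_of_not_LB h)))) := by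
  rw [rho_lie_e, F_of_not_LB b h]
  rfl

theorem rho_mem_of_forall {n : ℕ} (x : L) {v : S k ι}
    (h : ∀ m, rhoB b m v ∈ Sle k ι n) : rho b x v ∈ Sle k ι n := by
  rw [rho_eq_sum]
  simp only [Finsupp.linearCombination_apply, Finsupp.sum, LinearMap.sum_apply,
    LinearMap.smul_apply]
  exact Submodule.sum_mem _ fun m _ => Submodule.smul_mem _ _ (h m)

/-- the leading term of `F b i s` is `e (i ::ₘ s)` -/
theorem F_sub_mem : ∀ (n : ℕ) (s : Multiset ι), card s = n → ∀ i : ι,
    F b i s - e k (i ::ₘ s) ∈ Sle k ι n := by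
  intro n
  induction n using Nat.strong_induction_on with
  | _ n ih =>
    intro s hs i
    -- consequence of the induction hypothesis
    have hmem : ∀ s' : Multiset ι, card s' < n → ∀ m, F b m s' ∈ Sle k ι (card s' + 1) := by
      intro s' hs' m
      have h1 := ih (card s') hs' s' rfl m
      have h2 : e k (m ::ₘ s') ∈ Sle k ι (card s' + 1) := e_mem_Sle (by simp)
      have := Submodule.add_mem _ (Sle_mono (Nat.le_succ _) h1) h2
      rwa [sub_add_cancel] at this
    by_cases h : LB i s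
    · rw [F_of_LB b h, sub_self]
      exact zero_mem _
    · have hs0 := ne_zero_of_not_LB h
      have hF := F_of_not_LB' b h
      obtain ⟨l, hl⟩ : ∃ l, l = minOf s (ne_zero_of_not_LB h) := ⟨_, rfl⟩
      rw [← hl] at hF
      obtain ⟨Ψ, hΨ⟩ : ∃ Ψ, Ψ = s.erase l := ⟨_, rfl⟩
      rw [← hΨ] at hF
      have hcons : l ::ₘ Ψ = s := by rw [hΨ, hl]; exact cons_erase_minOf s hs0
      have hcard : card Ψ + 1 = n := by rw [← hs, ← hcons, Multiset.card_cons]
      have hΨn : card Ψ < n := by omega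
      have hw := ih (card Ψ) hΨn Ψ rfl i
      obtain ⟨w, hwdef⟩ : ∃ w, w = F b i Ψ - e k (i ::ₘ Ψ) := ⟨_, rfl⟩
      have hFi : F b i Ψ = e k (i ::ₘ Ψ) + w := by rw [hwdef]; abel
      have hw' : w ∈ Sle k ι (card Ψ) := hwdef ▸ hw
      rw [hF, hFi, _root_.map_add, hs]
      have h1 : G b l n (e k (i ::ₘ Ψ)) = e k (i ::ₘ s) := by
        rw [G_e_of_not_lt b (by simp; omega)]
        congr 1
        rw [Multiset.cons_swap, hcons]
      have h2 : G b l n w = rhoB b l w := by
        rw [← hcard]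
        exact G_eq_rhoB b hw'
      rw [h1, h2]
      have h3 : rhoB b l w ∈ Sle k ι n := by
        apply map_mem_of_Sle _ hw'
        intro s' hs'
        rw [rhoB_e]
        exact Sle_mono (by omega) (hmem s' (by omega) l)
      have h4 : rho b ⁅b i, b l⁆ (e k Ψ) ∈ Sle k ι n := by
        apply rho_mem_of_forall
        intro m
        rw [rhoB_e, ← hcard]
        exact hmem Ψ hΨn m
      have : e k (i ::ₘ s) + rhoB b l w + rho b ⁅b i, b l⁆ (e k Ψ) - e k (i ::ₘ s) =
          rhoB b l w + rho b ⁅b i, b l⁆ (e k Ψ) := by abel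
      rw [this]
      exact Submodule.add_mem _ h3 h4

end Groth.Agent.H83.PBWRing

namespace Groth.Agent.H83.PBWRing

universe u v w

open Multiset

variable {k : Type u} [CommRing k] {L : Type v} [LieRing L] [LieAlgebra k L]
  {ι : Type w} [LinearOrder ι] (b : Module.Basis ι k L)

theorem rhoB_e_of_LB {i : ι} {s : Multiset ι} (h : LB i s) :
    rhoB b i (e k s) = e k (i ::ₘ s) := by
  rw [rhoB_e, F_of_LB b h]

theorem rhoB_e_sub_mem (i : ι) (s : Multiset ι) :
    rhoB b i (e k s) - e k (i ::ₘ s) ∈ Sle k ι (card s) := by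
  rw [rhoB_e]
  exact F_sub_mem b (card s) s rfl i

theorem rhoB_e_mem (i : ι) (s : Multiset ι) : rhoB b i (e k s) ∈ Sle k ι (card s + 1) := by
  have h1 := Sle_mono (Nat.le_succ _) (rhoB_e_sub_mem b i s)
  have h2 : e k (i ::ₘ s) ∈ Sle k ι (card s + 1) := e_mem_Sle (by simp)
  have := Submodule.add_mem _ h1 h2
  rwa [sub_add_cancel] at this

theorem rhoB_mem (i : ι) {n : ℕ} {v : S k ι} (hv : v ∈ Sle k ι n) :
    rhoB b i v ∈ Sle k ι (n + 1) := by
  apply map_mem_of_Sle _ hv
  intro s hs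
  exact Sle_mono (by omega) (rhoB_e_mem b i s)

theorem rho_mem (x : L) {n : ℕ} {v : S k ι} (hv : v ∈ Sle k ι n) :
    rho b x v ∈ Sle k ι (n + 1) :=
  rho_mem_of_forall b x fun m => rhoB_mem b m hv

/-- the recursion formula in clean form -/
theorem rhoB_e_cons {i l : ι} {Ψ : Multiset ι} (hl : LB l Ψ) (hli : l < i) :
    rhoB b i (e k (l ::ₘ Ψ)) =
      rhoB b l (rhoB b i (e k Ψ)) + rho b ⁅b i, b l⁆ (e k Ψ) := by
  have hnot : ¬ LB i (l ::ₘ Ψ) := by
    intro h
    exact absurd (h l (Multiset.mem_cons_self l Ψ)) (not_le.mpr hli)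
  have hmin : minOf (l ::ₘ Ψ) (ne_zero_of_not_LB hnot) = l := minOf_cons_of_LB hl _
  have hF := F_of_not_LB' b hnot
  rw [hmin, Multiset.erase_cons_head, Multiset.card_cons] at hF
  rw [rhoB_e, hF, rhoB_e]
  congr 1
  -- split off the leading term
  obtain ⟨w, hwdef⟩ : ∃ w, w = F b i Ψ - e k (i ::ₘ Ψ) := ⟨_, rfl⟩
  have hFi : F b i Ψ = e k (i ::ₘ Ψ) + w := by rw [hwdef]; abel
  have hw : w ∈ Sle k ι (card Ψ) := hwdef ▸ F_sub_mem b (card Ψ) Ψ rfl i
  rw [hFi, _root_.map_add, _root_.map_add, G_eq_rhoB b hw, G_e_of_not_lt b (by simp),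
    rhoB_e_of_LB b (LB_cons hli.le hl)]

end Groth.Agent.H83.PBWRing
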