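import Groth.Agent.H83.PBWRing.Comm
import Mathlib.Algebra.Lie.OfAssociative
import Mathlib.LinearAlgebra.Finsupp.VectorSpace

set_option autoImplicit false
set_option linter.unusedSectionVars false

namespace Groth.Agent.H83.PBWRing

universe u v w

attribute [local instance] LieRing.ofAssociativeRing

variable {k : Type u} [CommRing k] {L : Type v} [LieRing L] [LieAlgebra k L]
  {ι : Type w} [LinearOrder ι] (b : Module.Basis ι k L)

local notation "U" => UniversalEnvelopingAlgebra k L
local notation "ιU" => UniversalEnvelopingAlgebra.ι k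

/-- `rho` as a Lie algebra homomorphism -/
noncomputable def rhoLie : L →ₗ⁅k⁆ Module.End k (S k ι) :=
  { rho b with
    map_lie' := by
      intro x y
      change rho b ⁅x, y⁆ = ⁅rho b x, rho b y⁆
      rw [rho_lie]
      rfl }

theorem rhoLie_apply (x : L) : rhoLie b x = rho b x := rfl

/-- the `U`-module structure on `S` -/
noncomputable def rhoU : U →ₐ[k] Module.End k (S k ι) :=
  UniversalEnvelopingAlgebra.lift k (rhoLie b)

theorem rhoU_ι (x : L) : rhoU b (ιU x) = rho b x := by
  rw [rhoU, UniversalEnvelopingAlgebra.lift_ι_apply, rhoLie_apply]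

/-- evaluation at the vacuum vector -/
noncomputable def ev : U →ₗ[k] S k ι :=
  (LinearMap.applyₗ (e k (0 : Multiset ι))) ∘ₗ (rhoU b).toLinearMap

theorem ev_apply (u : U) : ev b u = rhoU b u (e k 0) := rfl

/-- the ordered monomial attached to a multiset -/
noncomputable def M (s : Multiset ι) : U :=
  ((s.sort (· ≤ ·)).map fun i => ιU (b i)).prod

theorem M_zero : M b (0 : Multiset ι) = 1 := by
  simp [M]

theorem M_cons {i : ι} {s : Multiset ι} (h : LB i s) : M b (i ::ₘ s) = ιU (b i) * M b s := by
  unfold M
  have := Multiset.sort_cons i s (· ≤ ·) h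
  rw [this, List.map_cons, List.prod_cons]

theorem ev_M : ∀ (n : ℕ) (s : Multiset ι), Multiset.card s = n → ev b (M b s) = e k s := by
  intro n
  induction n with
  | zero =>
    intro s hs
    rw [Multiset.card_eq_zero.mp hs, M_zero, ev_apply, map_one, Module.End.one_apply]
  | succ n ih =>
    intro s hs
    have hs0 : s ≠ 0 := by
      rintro rfl
      simp at hs
    have hcons := cons_erase_minOf s hs0
    have hcard := card_erase_minOf s hs0
    rw [← hcons, M_cons b (minOf_LB_erase s hs0), ev_apply, map_mul, Module.End.mul_apply,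
      ← ev_apply, ih _ (by omega), rhoU_ι, rho_basis, rhoB_e_of_LB b (minOf_LB_erase s hs0)]

/-- the comparison map -/
noncomputable def phi : S k ι →ₗ[k] U := Finsupp.linearCombination k (M b)

theorem phi_e (s : Multiset ι) : phi b (e k s) = M b s := by
  simp [phi, e]

theorem ev_phi (v : S k ι) : ev b (phi b v) = v := by
  have : (ev b ∘ₗ phi b) v = (LinearMap.id : S k ι →ₗ[k] S k ι) v := by
    have hv : v ∈ (⊤ : Submodule k (S k ι)) := trivial
    rw [← Finsupp.supported_univ, Finsupp.supported_eq_span_single] at hv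
    refine LinearMap.eqOn_span ?_ hv
    rintro _ ⟨s, -, rfl⟩
    change ev b (phi b (e k s)) = e k s
    rw [phi_e, ev_M b _ s rfl]
  exact this

theorem phi_injective : Function.Injective (phi b) :=
  Function.LeftInverse.injective (ev_phi b)

end Groth.Agent.H83.PBWRing

namespace Groth.Agent.H83.PBWRing

universe u v w

attribute [local instance] LieRing.ofAssociativeRing

variable {k : Type u} [CommRing k] {L : Type v} [LieRing L] [LieAlgebra k L]
  {ι : Type w} [LinearOrder ι] (b : Module.Basis ι k L)

local notation "U" => UniversalEnvelopingAlgebra k L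
local notation "ιU" => UniversalEnvelopingAlgebra.ι k

/-- from basis vectors to all of `L` -/
theorem intertwine_of_basis {u : U} {v : S k ι}
    (h : ∀ i, ιU (b i) * u = phi b (rhoB b i v)) (x : L) : ιU x * u = phi b (rho b x v) := by
  have hx : x ∈ Submodule.span k (Set.range b) := b.mem_span x
  induction hx using Submodule.span_induction with
  | mem x hx =>
    obtain ⟨i, rfl⟩ := hx
    rw [rho_basis]; exact h i
  | zero => simp
  | add x y _ _ hx hy =>
    rw [map_add, add_mul, hx, hy, map_add, LinearMap.add_apply, map_add]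
  | smul c x _ hx =>
    rw [map_smul, smul_mul_assoc, hx, map_smul, LinearMap.smul_apply, map_smul]

/-- `phi` intertwines the actions, on basis vectors -/
theorem intertwine_basis : ∀ (n : ℕ) (s : Multiset ι), Multiset.card s = n → ∀ i : ι,
    ιU (b i) * phi b (e k s) = phi b (rhoB b i (e k s)) := by
  intro n
  induction n using Nat.strong_induction_on with
  | _ n ih =>
    intro s hs i
    -- linear form of the induction hypothesis
    have ihlin : ∀ m < n, ∀ v ∈ Sle k ι m, ∀ i : ι, ιU (b i) * phi b v = phi b (rhoB b i v) := by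
      intro m hm v hv i
      have : ((LinearMap.mulLeft k (ιU (b i))) ∘ₗ phi b) v = (phi b ∘ₗ rhoB b i) v := by
        apply eq_on_Sle _ hv
        intro s' hs'
        exact ih (Multiset.card s') (lt_of_le_of_lt hs' hm) s' rfl i
      exact this
    by_cases h : LB i s
    · rw [rhoB_e_of_LB b h, phi_e, phi_e, M_cons b h]
    · have hs0 := ne_zero_of_not_LB h
      obtain ⟨l, hl⟩ : ∃ l, l = minOf s hs0 := ⟨_, rfl⟩
      obtain ⟨Ψ, hΨ⟩ : ∃ Ψ, Ψ = s.erase l := ⟨_, rfl⟩
      have hcons : l ::ₘ Ψ = s := by rw [hΨ, hl]; exact cons_erase_minOf s hs0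
      have hcard : Multiset.card Ψ + 1 = n := by rw [← hs, ← hcons, Multiset.card_cons]
      have hΨn : Multiset.card Ψ < n := by omega
      have hlΨ : LB l Ψ := by rw [hΨ, hl]; exact minOf_LB_erase s hs0
      have hli : l < i := by rw [hl]; exact minOf_lt_of_not_LB h
      have hvΨ : e k Ψ ∈ Sle k ι (Multiset.card Ψ) := e_mem_Sle le_rfl
      rw [← hcons, rhoB_e_cons b hlΨ hli, map_add]
      -- first term
      obtain ⟨w, hwdef⟩ : ∃ w, w = rhoB b i (e k Ψ) - e k (i ::ₘ Ψ) := ⟨_, rfl⟩
      have hw : w ∈ Sle k ι (Multiset.card Ψ) := hwdef ▸ rhoB_e_sub_mem b i Ψ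
      have hsplit : rhoB b i (e k Ψ) = e k (i ::ₘ Ψ) + w := by rw [hwdef]; abel
      have h1 : phi b (rhoB b l (rhoB b i (e k Ψ))) = ιU (b l) * phi b (rhoB b i (e k Ψ)) := by
        rw [hsplit, map_add, map_add, map_add, mul_add,
          rhoB_e_of_LB b (LB_cons hli.le hlΨ), phi_e, phi_e, M_cons b (LB_cons hli.le hlΨ),
          ihlin _ hΨn w hw l]
      have h2 : phi b (rhoB b i (e k Ψ)) = ιU (b i) * phi b (e k Ψ) :=
        (ih _ hΨn Ψ rfl i).symm
      have h3 : phi b (rho b ⁅b i, b l⁆ (e k Ψ)) = ιU ⁅b i, b l⁆ * phi b (e k Ψ) :=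
        (intertwine_of_basis b (fun m => ihlin _ hΨn _ hvΨ m) ⁅b i, b l⁆).symm
      rw [h1, h2, h3, phi_e, phi_e, M_cons b hlΨ, LieHom.map_lie,
        LieRing.of_associative_ring_bracket]
      rw [sub_mul, mul_assoc, mul_assoc]
      abel

end Groth.Agent.H83.PBWRing

namespace Groth.Agent.H83.PBWRing

universe u v w

attribute [local instance] LieRing.ofAssociativeRing

variable {k : Type u} [CommRing k] {L : Type v} [LieRing L] [LieAlgebra k L]
  {ι : Type w} [LinearOrder ι] (b : Module.Basis ι k L)

local notation "U" => UniversalEnvelopingAlgebra k L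
local notation "ιU" => UniversalEnvelopingAlgebra.ι k

/-- the image of `ι` generates the enveloping algebra -/
theorem adjoin_range_ι : Algebra.adjoin k (Set.range (ιU : L → U)) = ⊤ := by
  set A' := Algebra.adjoin k (Set.range (ιU : L → U)) with hA'
  -- the Lie hom `L → A'`
  let ι' : L →ₗ⁅k⁆ A' :=
    { toFun := fun x => ⟨ιU x, Algebra.subset_adjoin ⟨x, rfl⟩⟩
      map_add' := fun x y => by
        apply Subtype.ext
        simp
      map_smul' := fun c x => by
        apply Subtype.ext
        simp
      map_lie' := by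
        intro x y
        apply Subtype.ext
        simp [LieRing.of_associative_ring_bracket] }
  let ψ : U →ₐ[k] A' := UniversalEnvelopingAlgebra.lift k ι'
  have hcomp : A'.val.comp ψ = AlgHom.id k U := by
    apply UniversalEnvelopingAlgebra.hom_ext
    ext x
    simp only [LieHom.coe_comp, Function.comp_apply, AlgHom.coe_toLieHom, AlgHom.comp_apply,
      AlgHom.id_apply]
    rw [UniversalEnvelopingAlgebra.lift_ι_apply]
    rfl
  rw [eq_top_iff]
  intro u _
  have : u = A'.val (ψ u) := by
    have := congrArg (fun f => f u) hcomp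
    simpa using this.symm
  rw [this]
  exact (ψ u).2

theorem phi_surjective : Function.Surjective (phi b) := by
  -- the range of `phi` is stable under left multiplication by `ι x`
  have hstep : ∀ (x : L) (g : U), g ∈ LinearMap.range (phi b) → ιU x * g ∈ LinearMap.range (phi b) := by
    rintro x _ ⟨v, rfl⟩
    refine ⟨rho b x v, ?_⟩
    have : ((LinearMap.mulLeft k (ιU x)) ∘ₗ phi b) v = (phi b ∘ₗ rho b x) v := by
      have hv : v ∈ (⊤ : Submodule k (S k ι)) := trivial
      rw [← Finsupp.supported_univ, Finsupp.supported_eq_span_single] at hv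
      refine LinearMap.eqOn_span ?_ hv
      rintro _ ⟨s, -, rfl⟩
      change ιU x * phi b (e k s) = phi b (rho b x (e k s))
      exact intertwine_of_basis b (fun i => intertwine_basis b _ s rfl i) x
    exact this.symm
  have hall : ∀ u : U, ∀ g ∈ LinearMap.range (phi b), u * g ∈ LinearMap.range (phi b) := by
    intro u
    have hu : u ∈ Algebra.adjoin k (Set.range (ιU : L → U)) := by
      rw [adjoin_range_ι]; trivial
    induction hu using Algebra.adjoin_induction with
    | mem u hu =>
      obtain ⟨x, rfl⟩ := hu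
      exact hstep x
    | algebraMap c =>
      intro g hg
      rw [← Algebra.smul_def]
      exact Submodule.smul_mem _ c hg
    | add u u' _ _ hu hu' =>
      intro g hg
      rw [add_mul]
      exact Submodule.add_mem _ (hu g hg) (hu' g hg)
    | mul u u' _ _ hu hu' =>
      intro g hg
      rw [mul_assoc]
      exact hu _ (hu' g hg)
  intro u
  have h1 : (1 : U) ∈ LinearMap.range (phi b) := ⟨e k 0, by rw [phi_e, M_zero]⟩
  have := hall u 1 h1
  rwa [mul_one] at this

/-- `phi` as a linear equivalence -/
noncomputable def phiEquiv : S k ι ≃ₗ[k] U :=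
  LinearEquiv.ofBijective (phi b) ⟨phi_injective b, phi_surjective b⟩

/-- sorted lists are the same as multisets -/
noncomputable def sortedEquiv : {l : List ι // l.SortedLE} ≃ Multiset ι where
  toFun l := (l.1 : Multiset ι)
  invFun s := ⟨s.sort (· ≤ ·), (Multiset.pairwise_sort s (· ≤ ·)).sortedLE⟩
  left_inv l := by
    apply Subtype.ext
    change Multiset.sort (l.1 : Multiset ι) (· ≤ ·) = l.1
    rw [Multiset.coe_sort]
    exact List.mergeSort_eq_self (r := (· ≤ ·)) l.2.pairwise
  right_inv s := Multiset.sort_eq s (· ≤ ·)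

/-- **Poincaré–Birkhoff–Witt.** -/
theorem pbw : ∃ B : Module.Basis {l : List ι // l.SortedLE} k U,
    ∀ l, B l = (l.1.map fun i => ιU (b i)).prod := by
  let B' : Module.Basis (Multiset ι) k U := (Finsupp.basisSingleOne (R := k)).map (phiEquiv b)
  refine ⟨B'.reindex (sortedEquiv (ι := ι)).symm, fun l => ?_⟩
  rw [Module.Basis.reindex_apply, Equiv.symm_symm]
  change phi b (Finsupp.single (l.1 : Multiset ι) 1) = _
  change phi b (e k (l.1 : Multiset ι)) = _
  rw [phi_e, M]
  have : Multiset.sort (l.1 : Multiset ι) (· ≤ ·) = l.1 := by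
    rw [Multiset.coe_sort]
    exact List.mergeSort_eq_self (r := (· ≤ ·)) l.2.pairwise
  rw [this]

end Groth.Agent.H83.PBWRing
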